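import Groth.Agent.SchDense.Basic
import Groth.Agent.GrpdLib.GrpOver

/-!
# Relatively schematically dense opens: stability properties
-/

set_option autoImplicit false
universe u

open CategoryTheory MonoidalCategory CartesianMonoidalCategory MonObj GrpObj AlgebraicGeometry Limits

namespace Groth.Agent.RelDense

variable {S : Scheme.{u}}

lemma inf {X : Scheme.{u}} {O₁ O₂ : X.Opens} (h₁ : CInt.IsSchematicallyDense O₁)
    (h₂ : CInt.IsSchematicallyDense O₂) : CInt.IsSchematicallyDense (O₁ ⊓ O₂) := by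
  intro V a b hab
  apply h₁ V
  apply h₂ (V ⊓ O₁)
  have hle : (V ⊓ O₁) ⊓ O₂ ≤ V ⊓ (O₁ ⊓ O₂) := (inf_assoc _ _ _).le
  have := congrArg (X.presheaf.map (homOfLE hle).op) hab
  simp only [← CommRingCat.comp_apply, ← Functor.map_comp] at this ⊢
  exact this

lemma preimage {X Y : Scheme.{u}} (f : X ⟶ Y) [IsOpenImmersion f] {O : Y.Opens}
    (h : CInt.IsSchematicallyDense O) : CInt.IsSchematicallyDense (f ⁻¹ᵁ O) := by
  intro V a b hab
  apply (ConcreteCategory.bijective_of_isIso (f.appIso V).inv).1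
  apply h (f ''ᵁ V)
  have hle : f ''ᵁ V ⊓ O ≤ f ''ᵁ (V ⊓ f ⁻¹ᵁ O) := by
    rintro _ ⟨⟨x, hx, rfl⟩, hO⟩
    exact ⟨x, ⟨hx, hO⟩, rfl⟩
  have := congrArg ((f.appIso (V ⊓ f ⁻¹ᵁ O)).inv ≫ Y.presheaf.map (homOfLE hle).op) hab
  simp only [← CommRingCat.comp_apply, ← Category.assoc, Scheme.Hom.appIso_inv_naturality] at this
  simp only [← CommRingCat.comp_apply, Category.assoc, ← Functor.map_comp] at this ⊢
  exact this

lemma nonempty {X : Scheme.{u}} [Nonempty X] {O : X.Opens} (h : CInt.IsSchematicallyDense O) :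
    ∃ x, x ∈ O := by
  by_contra hne
  have hO : O = ⊥ := le_bot_iff.mp fun x hx => hne ⟨x, hx⟩
  have : Subsingleton Γ(X, ⊤ ⊓ O) := by
    rw [hO, inf_bot_eq]
    infer_instance
  have h01 : (0 : Γ(X, ⊤)) = 1 := h ⊤ (Subsingleton.elim _ _)
  have := congrArg X.basicOpen h01
  rw [Scheme.basicOpen_zero, Scheme.basicOpen_one] at this
  obtain ⟨x⟩ := ‹Nonempty X›
  exact (this.ge (x := x) trivial : x ∈ (⊥ : X.Opens))

/-- Schematically dense relative to `S`. -/
def Rel (X : Over S) (O : X.left.Opens) : Prop :=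
  ∀ Z : Over S, CInt.IsSchematicallyDense ((fst X Z).left ⁻¹ᵁ O)

lemma rel_of {X : Over S} {O : X.left.Opens}
    (h : ∀ (S' : Scheme.{u}) (g : S' ⟶ S), CInt.IsSchematicallyDense ((pullback.fst X.hom g) ⁻¹ᵁ O)) :
    Rel X O :=
  fun Z => h Z.left Z.hom

lemma Rel.out {X : Over S} {O : X.left.Opens} (h : Rel X O) (S' : Scheme.{u}) (g : S' ⟶ S) :
    CInt.IsSchematicallyDense ((pullback.fst X.hom g) ⁻¹ᵁ O) := by
  have := h (Over.mk g)
  rw [Over.fst_left] at this
  exact this

lemma Rel.inf {X : Over S} {O₁ O₂ : X.left.Opens} (h₁ : Rel X O₁) (h₂ : Rel X O₂) : Rel X (O₁ ⊓ O₂) := by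
  intro Z
  have := Groth.Agent.RelDense.inf (h₁ Z) (h₂ Z)
  rw [Scheme.Hom.preimage_inf]
  exact this

lemma Rel.preimage {X Y : Over S} (f : Y ⟶ X) [IsOpenImmersion f.left] {O : X.left.Opens} (h : Rel X O) :
    Rel Y (f.left ⁻¹ᵁ O) := by
  intro Z
  have hf : IsOpenImmersion (f ▷ Z).left := by
    have e : f ▷ Z = (β_ Y Z).hom ≫ (Z ◁ f) ≫ (β_ Z X).hom := by
      ext <;> simp
    have hw : IsOpenImmersion (Z ◁ f).left := by
      refine MorphismProperty.of_isPullback (P := @IsOpenImmersion) (f := (snd Z X).left)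
        (f' := (snd Z Y).left) ?_ ‹_›
      refine IsPullback.of_bot (v₂₁ := (fst Z X).left) (v₂₂ := X.hom) (h₃₁ := Z.hom) ?_ ?_ ?_
      rotate_right
      · exact (IsPullback.of_hasPullback Z.hom X.hom).flip
      · have e : (Z ◁ f).left ≫ (fst Z X).left = (fst Z Y).left := by
          rw [← Over.comp_left, whiskerLeft_fst]
        rw [e, Over.w]
        exact (IsPullback.of_hasPullback Z.hom Y.hom).flip
      · simp only [← Over.comp_left, whiskerLeft_snd]
    have : IsIso (β_ Y Z).hom.left := inferInstanceAs (IsIso ((Over.forget S).map (β_ Y Z).hom))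
    have : IsIso (β_ Z X).hom.left := inferInstanceAs (IsIso ((Over.forget S).map (β_ Z X).hom))
    rw [e, Over.comp_left, Over.comp_left]
    infer_instance
  have := RelDense.preimage (f ▷ Z).left (h Z)
  rw [← Scheme.Hom.comp_preimage, ← Over.comp_left, whiskerRight_fst, Over.comp_left,
    Scheme.Hom.comp_preimage] at this
  exact this

lemma Rel.fst {X : Over S} {O : X.left.Opens} (h : Rel X O) (Y : Over S) :
    Rel (X ⊗ Y) ((CartesianMonoidalCategory.fst X Y).left ⁻¹ᵁ O) := by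
  intro Z
  have : IsIso (α_ X Y Z).hom.left := inferInstanceAs (IsIso ((Over.forget S).map (α_ X Y Z).hom))
  have := RelDense.preimage (α_ X Y Z).hom.left (h (Y ⊗ Z))
  rw [← Scheme.Hom.comp_preimage, ← Over.comp_left, associator_hom_fst] at this
  rw [← Scheme.Hom.comp_preimage, ← Over.comp_left]
  exact this

lemma Rel.iso {X Y : Over S} (e : Y ≅ X) {O : X.left.Opens} (h : Rel X O) :
    Rel Y (e.hom.left ⁻¹ᵁ O) := by
  have : IsIso e.hom.left := inferInstanceAs (IsIso ((Over.forget S).map e.hom))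
  exact h.preimage e.hom

/-- Morphisms to a group scheme agreeing on a relatively schematically dense open agree. -/
lemma Rel.hom_ext {X H : Over S} [GrpObj H] {O : X.left.Opens} (h : Rel X O) {f g : X ⟶ H}
    (hfg : O.ι ≫ f.left = O.ι ≫ g.left) : f = g := by
  refine Groth.Agent.SchDense.eq_of_fibres_separated O h.out (fun s => ?_) f g hfg
  letI : GrpObj ((Over.pullback (S.fromSpecResidueField s)).obj H) := Functor.grpObjObj
  exact Groth.Agent.GrpdLib.GrpOver.isSeparated_hom (k := S.residueField s)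
    ((Over.pullback (S.fromSpecResidueField s)).obj H)

end Groth.Agent.RelDense
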