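import Groth.Agent.RelDense.Basic
import Mathlib.AlgebraicGeometry.Sites.Fpqc
import Mathlib.AlgebraicGeometry.Morphisms.FlatDescent

/-!
# Extension of a multiplicative map from a relatively schematically dense open
-/

set_option autoImplicit false
universe u

open CategoryTheory MonoidalCategory CartesianMonoidalCategory MonObj GrpObj AlgebraicGeometry Limits

noncomputable section

namespace Groth.Agent.RelDense

variable {S : Scheme.{u}} {G H : Over S} [GrpObj G] [GrpObj H]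

/-- An open as an object over `S`. -/
abbrev sub {X : Over S} (O : X.left.Opens) : Over S := Over.mk (O.ι ≫ X.hom)

/-- The inclusion of an open. -/
def subι {X : Over S} (O : X.left.Opens) : sub O ⟶ X := Over.homMk O.ι rfl

@[simp] lemma subι_left {X : Over S} (O : X.left.Opens) : (subι O).left = O.ι := rfl

instance {X : Over S} (O : X.left.Opens) : IsOpenImmersion (subι O).left :=
  inferInstanceAs (IsOpenImmersion O.ι)

instance {X : Over S} (O : X.left.Opens) : Mono (subι O) := Over.mono_of_mono_left _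

lemma exists_lift_sub {X Y : Over S} {O : X.left.Opens} (f : Y ⟶ X) (hf : ⊤ ≤ f.left ⁻¹ᵁ O) :
    ∃ l : Y ⟶ sub O, l ≫ subι O = f := by
  have hsub : Set.range f.left ⊆ Set.range O.ι := by
    rintro _ ⟨y, rfl⟩
    rw [Scheme.Opens.range_ι]
    exact hf (x := y) trivial
  exact ⟨Over.homMk (IsOpenImmersion.lift O.ι f.left hsub) (by
    show IsOpenImmersion.lift O.ι f.left hsub ≫ O.ι ≫ X.hom = Y.hom
    rw [IsOpenImmersion.lift_fac_assoc, Over.w]),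
    Over.OverMorphism.ext (IsOpenImmersion.lift_fac _ _ _)⟩

lemma sub_mem {X : Over S} {O : X.left.Opens} {Y : Over S} (l : Y ⟶ sub O) :
    ⊤ ≤ (l ≫ subι O).left ⁻¹ᵁ O :=
  fun y _ => (l.left y).2

/-- Points in a smaller preimage. -/
lemma sub_le {X Y : Over S} {P : X.left.Opens} {O : Y.left.Opens} (f : X ⟶ Y) (hP : P ≤ f.left ⁻¹ᵁ O) :
    ⊤ ≤ (subι P ≫ f).left ⁻¹ᵁ O :=
  fun y _ => hP y.2

lemma comp_le {X Y Z : Over S} {O : Z.left.Opens} (f : X ⟶ Y) (g : Y ⟶ Z) (h : ⊤ ≤ g.left ⁻¹ᵁ O) :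
    ⊤ ≤ (f ≫ g).left ⁻¹ᵁ O :=
  fun x _ => h (x := f.left x) trivial

lemma hom_ext_sub {X : Over S} {O : X.left.Opens} (h : Rel X O) {f g : X ⟶ H}
    (hfg : subι O ≫ f = subι O ≫ g) : f = g :=
  h.hom_ext (congrArg (fun m => m.left) hfg)

variable {U : G.left.Opens} {V : (G ⊗ G).left.Opens} (fbar : sub U ⟶ H)

/-- Multiplicativity of a map on `U` for the pairs lying in `V`. -/
def Mult (V : (G ⊗ G).left.Opens) (fbar : sub U ⟶ H) : Prop :=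
  ∀ (X : Over S) (a b : X ⟶ sub U), ⊤ ≤ (lift (a ≫ subι U) (b ≫ subι U)).left ⁻¹ᵁ V →
    ∃ c : X ⟶ sub U, c ≫ subι U = (a ≫ subι U) * (b ≫ subι U) ∧ c ≫ fbar = (a ≫ fbar) * (b ≫ fbar)

/-- Change of coordinates with first component `(g * b, c)`. -/
def shear₁ : (G ⊗ (G ⊗ G)) ⊗ G ≅ (G ⊗ G) ⊗ (G ⊗ G) where
  hom := lift (lift ((fst _ _ ≫ fst _ _) * (fst _ _ ≫ snd _ _ ≫ fst _ _)) (snd _ _))
    (lift (fst _ _ ≫ fst _ _) (fst _ _ ≫ snd _ _ ≫ snd _ _))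
  inv := lift (lift (snd _ _ ≫ fst _ _) (lift ((snd _ _ ≫ fst _ _)⁻¹ * (fst _ _ ≫ fst _ _)) (snd _ _ ≫ snd _ _)))
    (fst _ _ ≫ snd _ _)
  hom_inv_id := by
    ext <;> simp [MonObj.comp_mul, GrpObj.comp_inv]
  inv_hom_id := by
    ext <;> simp [MonObj.comp_mul, GrpObj.comp_inv]

/-- Change of coordinates with first component `(b, c)`. -/
def shear₂ : (G ⊗ (G ⊗ G)) ⊗ G ≅ (G ⊗ G) ⊗ (G ⊗ G) where
  hom := lift (lift (fst _ _ ≫ snd _ _ ≫ fst _ _) (snd _ _))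
    (lift (fst _ _ ≫ fst _ _) (fst _ _ ≫ snd _ _ ≫ snd _ _))
  inv := lift (lift (snd _ _ ≫ fst _ _) (lift (fst _ _ ≫ fst _ _) (snd _ _ ≫ snd _ _)))
    (fst _ _ ≫ snd _ _)
  hom_inv_id := by
    ext <;> simp
  inv_hom_id := by
    ext <;> simp

/-- Exchanging `b` and `b'`. -/
def flipI : (G ⊗ (G ⊗ G)) ⊗ G ≅ (G ⊗ (G ⊗ G)) ⊗ G where
  hom := lift (lift (fst _ _ ≫ fst _ _) (lift (fst _ _ ≫ snd _ _ ≫ snd _ _) (fst _ _ ≫ snd _ _ ≫ fst _ _)))
    ((fst _ _ ≫ snd _ _ ≫ snd _ _)⁻¹ * (fst _ _ ≫ snd _ _ ≫ fst _ _) * snd _ _)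
  inv := lift (lift (fst _ _ ≫ fst _ _) (lift (fst _ _ ≫ snd _ _ ≫ snd _ _) (fst _ _ ≫ snd _ _ ≫ fst _ _)))
    ((fst _ _ ≫ snd _ _ ≫ snd _ _)⁻¹ * (fst _ _ ≫ snd _ _ ≫ fst _ _) * snd _ _)
  hom_inv_id := by
    ext <;> simp [MonObj.comp_mul, GrpObj.comp_inv, _root_.mul_assoc]
  inv_hom_id := by
    ext <;> simp [MonObj.comp_mul, GrpObj.comp_inv, _root_.mul_assoc]

/-- The locus of `(g, b, b')` with `b`, `g * b`, `b'`, `g * b'` in `U`. -/
def locus (U : G.left.Opens) : (G ⊗ (G ⊗ G)).left.Opens :=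
  (snd G (G ⊗ G) ≫ fst G G).left ⁻¹ᵁ U ⊓ (fst G (G ⊗ G) * (snd G (G ⊗ G) ≫ fst G G)).left ⁻¹ᵁ U ⊓
    (snd G (G ⊗ G) ≫ snd G G).left ⁻¹ᵁ U ⊓ (fst G (G ⊗ G) * (snd G (G ⊗ G) ≫ snd G G)).left ⁻¹ᵁ U

variable (hV : Rel (G ⊗ G) V) (hV2 : V ≤ (snd G G).left ⁻¹ᵁ U) (hm : Mult V fbar)

include hV hV2 hm in
/-- Independence of the auxiliary point, universally. -/
lemma key_univ (a₁ b₁ a₂ b₂ : sub (locus U) ⟶ sub U)
    (hb₁ : b₁ ≫ subι U = subι (locus U) ≫ snd G (G ⊗ G) ≫ fst G G)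
    (ha₁ : a₁ ≫ subι U = (subι (locus U) ≫ fst G (G ⊗ G)) * (b₁ ≫ subι U))
    (hb₂ : b₂ ≫ subι U = subι (locus U) ≫ snd G (G ⊗ G) ≫ snd G G)
    (ha₂ : a₂ ≫ subι U = (subι (locus U) ≫ fst G (G ⊗ G)) * (b₂ ≫ subι U)) :
    (a₁ ≫ fbar) * (b₁ ≫ fbar)⁻¹ = (a₂ ≫ fbar) * (b₂ ≫ fbar)⁻¹ := by
  let m₁ : (G ⊗ (G ⊗ G)) ⊗ G ⟶ G ⊗ G := shear₁.hom ≫ fst _ _
  let m₂ : (G ⊗ (G ⊗ G)) ⊗ G ⟶ G ⊗ G := shear₂.hom ≫ fst _ _
  let m₃ : (G ⊗ (G ⊗ G)) ⊗ G ⟶ G ⊗ G := flipI.hom ≫ m₁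
  let m₄ : (G ⊗ (G ⊗ G)) ⊗ G ⟶ G ⊗ G := flipI.hom ≫ m₂
  have h₁ : Rel ((G ⊗ (G ⊗ G)) ⊗ G) (m₁.left ⁻¹ᵁ V) := by
    have := (hV.fst (G ⊗ G)).iso (shear₁ (G := G))
    rw [← Scheme.Hom.comp_preimage, ← Over.comp_left] at this
    exact this
  have h₂ : Rel ((G ⊗ (G ⊗ G)) ⊗ G) (m₂.left ⁻¹ᵁ V) := by
    have := (hV.fst (G ⊗ G)).iso (shear₂ (G := G))
    rw [← Scheme.Hom.comp_preimage, ← Over.comp_left] at this
    exact this
  have h₃ : Rel ((G ⊗ (G ⊗ G)) ⊗ G) (m₃.left ⁻¹ᵁ V) := by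
    have := h₁.iso (flipI (G := G))
    rw [← Scheme.Hom.comp_preimage, ← Over.comp_left] at this
    exact this
  have h₄ : Rel ((G ⊗ (G ⊗ G)) ⊗ G) (m₄.left ⁻¹ᵁ V) := by
    have := h₂.iso (flipI (G := G))
    rw [← Scheme.Hom.comp_preimage, ← Over.comp_left] at this
    exact this
  let j : (sub (locus U)) ⊗ G ⟶ (G ⊗ (G ⊗ G)) ⊗ G := subι (locus U) ▷ G
  have hj : IsOpenImmersion j.left := by
    refine MorphismProperty.of_isPullback (P := @IsOpenImmersion) (f := (fst (G ⊗ (G ⊗ G)) G).left)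
      (f' := (fst (sub (locus U)) G).left) ?_ (inferInstance : IsOpenImmersion (subι (locus U)).left)
    refine IsPullback.of_right (h₁₂ := (snd (G ⊗ (G ⊗ G)) G).left) (h₂₂ := (G ⊗ (G ⊗ G)).hom) (v₁₃ := G.hom) ?_ ?_ ?_ |>.flip
    · have e : j.left ≫ (snd (G ⊗ (G ⊗ G)) G).left = (snd (sub (locus U)) G).left := by
        rw [← Over.comp_left, whiskerRight_snd]
      rw [e, Over.w]
      exact (IsPullback.of_hasPullback (sub (locus U)).hom G.hom).flip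
    · simp only [j, ← Over.comp_left, whiskerRight_fst]
    · exact (IsPullback.of_hasPullback (G ⊗ (G ⊗ G)).hom G.hom).flip
  set P := j.left ⁻¹ᵁ (m₁.left ⁻¹ᵁ V ⊓ m₂.left ⁻¹ᵁ V ⊓ m₃.left ⁻¹ᵁ V ⊓ m₄.left ⁻¹ᵁ V)
  have hP : Rel ((sub (locus U)) ⊗ G) P := (((h₁.inf h₂).inf h₃).inf h₄).preimage j
  have : Epi (fst (sub (locus U)) G) := by
    have : IsSplitEpi (fst (sub (locus U)) G) := IsSplitEpi.mk' ⟨lift (𝟙 (sub (locus U))) 1, lift_fst _ _⟩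
    infer_instance
  rw [← cancel_epi (fst (sub (locus U)) G)]
  refine hom_ext_sub hP ?_
  let π : sub P ⟶ (sub (locus U)) := subι P ≫ fst (sub (locus U)) G
  let c : sub P ⟶ G := subι P ≫ snd (sub (locus U)) G
  let c' : sub P ⟶ G := (π ≫ b₂ ≫ subι U)⁻¹ * (π ≫ b₁ ≫ subι U) * c
  have e₁ : subι P ≫ j ≫ m₁ = lift (π ≫ a₁ ≫ subι U) c := by
    ext
    · rw [ha₁, hb₁]
      simp [π, j, m₁, shear₁, MonObj.comp_mul]
    · simp [c, j, m₁, shear₁]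
  have e₂ : subι P ≫ j ≫ m₂ = lift (π ≫ b₁ ≫ subι U) c := by
    ext
    · rw [hb₁]
      simp [π, j, m₂, shear₂]
    · simp [c, j, m₂, shear₂]
  have e₃ : subι P ≫ j ≫ m₃ = lift (π ≫ a₂ ≫ subι U) c' := by
    ext
    · rw [ha₂, hb₂]
      simp [π, j, m₃, m₁, shear₁, flipI, MonObj.comp_mul, GrpObj.comp_inv]
    · simp only [c', hb₁, hb₂]
      simp [π, c, j, m₃, m₁, shear₁, flipI, MonObj.comp_mul, GrpObj.comp_inv]
  have e₄ : subι P ≫ j ≫ m₄ = lift (π ≫ b₂ ≫ subι U) c' := by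
    ext
    · rw [hb₂]
      simp [π, j, m₄, m₂, shear₂, flipI]
    · simp only [c', hb₁, hb₂]
      simp [π, c, j, m₄, m₂, shear₂, flipI, MonObj.comp_mul, GrpObj.comp_inv]
  have v₁ : ⊤ ≤ (lift (π ≫ a₁ ≫ subι U) c).left ⁻¹ᵁ V := e₁ ▸ (fun y _ => y.2.1.1.1)
  have v₂ : ⊤ ≤ (lift (π ≫ b₁ ≫ subι U) c).left ⁻¹ᵁ V := e₂ ▸ (fun y _ => y.2.1.1.2)
  have v₃ : ⊤ ≤ (lift (π ≫ a₂ ≫ subι U) c').left ⁻¹ᵁ V := e₃ ▸ (fun y _ => y.2.1.2)
  have v₄ : ⊤ ≤ (lift (π ≫ b₂ ≫ subι U) c').left ⁻¹ᵁ V := e₄ ▸ (fun y _ => y.2.2)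
  have hc : ∀ {z w : sub P ⟶ G}, ⊤ ≤ (lift z w).left ⁻¹ᵁ V → ∃ l : sub P ⟶ sub U, l ≫ subι U = w := by
    intro z w h
    refine exists_lift_sub w fun y hy => ?_
    have := hV2 (h hy)
    rw [← Scheme.Hom.mem_preimage, ← Scheme.Hom.comp_preimage, ← Over.comp_left, lift_snd] at this
    exact this
  obtain ⟨l, hl⟩ := hc v₁
  obtain ⟨l', hl'⟩ := hc v₃
  rw [← Category.assoc π] at v₁ v₂ v₃ v₄
  rw [← hl] at v₁ v₂
  rw [← hl'] at v₃ v₄
  obtain ⟨p₁, hp₁, hq₁⟩ := hm _ _ _ v₁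
  obtain ⟨p₂, hp₂, hq₂⟩ := hm _ _ _ v₂
  obtain ⟨p₃, hp₃, hq₃⟩ := hm _ _ _ v₃
  obtain ⟨p₄, hp₄, hq₄⟩ := hm _ _ _ v₄
  rw [hl] at hp₁ hp₂
  rw [hl'] at hp₃ hp₄
  obtain rfl : p₄ = p₂ := (cancel_mono (subι U)).1 (by
    rw [hp₄, hp₂]
    simp only [c', Category.assoc]
    group)
  obtain rfl : p₃ = p₁ := (cancel_mono (subι U)).1 (by
    rw [hp₃, hp₁]
    simp only [c', Category.assoc, ha₁, ha₂, MonObj.comp_mul]
    group)
  simp only [MonObj.comp_mul, GrpObj.comp_inv]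
  simp only [π, Category.assoc] at hq₁ hq₂ hq₃ hq₄
  rw [eq_mul_inv_of_mul_eq hq₁.symm, eq_mul_inv_of_mul_eq hq₂.symm, eq_mul_inv_of_mul_eq hq₃.symm,
    eq_mul_inv_of_mul_eq hq₄.symm]
  group

include hV hV2 hm in
/-- Independence of the auxiliary point. -/
lemma key {X : Over S} (g : X ⟶ G) (a₁ b₁ a₂ b₂ : X ⟶ sub U)
    (h₁ : a₁ ≫ subι U = g * (b₁ ≫ subι U)) (h₂ : a₂ ≫ subι U = g * (b₂ ≫ subι U)) :
    (a₁ ≫ fbar) * (b₁ ≫ fbar)⁻¹ = (a₂ ≫ fbar) * (b₂ ≫ fbar)⁻¹ := by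
  obtain ⟨B₁, hB₁⟩ := exists_lift_sub (O := U) (subι (locus U) ≫ snd G (G ⊗ G) ≫ fst G G)
    (sub_le _ fun y hy => hy.1.1.1)
  obtain ⟨A₁, hA₁⟩ := exists_lift_sub (O := U)
    (subι (locus U) ≫ (fst G (G ⊗ G) * (snd G (G ⊗ G) ≫ fst G G))) (sub_le _ fun y hy => hy.1.1.2)
  obtain ⟨B₂, hB₂⟩ := exists_lift_sub (O := U) (subι (locus U) ≫ snd G (G ⊗ G) ≫ snd G G)
    (sub_le _ fun y hy => hy.1.2)
  obtain ⟨A₂, hA₂⟩ := exists_lift_sub (O := U)
    (subι (locus U) ≫ (fst G (G ⊗ G) * (snd G (G ⊗ G) ≫ snd G G))) (sub_le _ fun y hy => hy.2)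
  let w : X ⟶ G ⊗ (G ⊗ G) := lift g (lift (b₁ ≫ subι U) (b₂ ≫ subι U))
  have hmem : ∀ (r : G ⊗ (G ⊗ G) ⟶ G) (l : X ⟶ sub U), w ≫ r = l ≫ subι U →
      ⊤ ≤ w.left ⁻¹ᵁ (r.left ⁻¹ᵁ U) := fun r l e => by
    rw [← Scheme.Hom.comp_preimage, ← Over.comp_left, e]
    exact sub_mem l
  obtain ⟨W, hW⟩ := exists_lift_sub (O := locus U) w fun x hx =>
    ⟨⟨⟨hmem (snd G (G ⊗ G) ≫ fst G G) b₁ (by simp [w]) hx,
      hmem (fst G (G ⊗ G) * (snd G (G ⊗ G) ≫ fst G G)) a₁ (by simp [w, MonObj.comp_mul, h₁]) hx⟩,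
      hmem (snd G (G ⊗ G) ≫ snd G G) b₂ (by simp [w]) hx⟩,
      hmem (fst G (G ⊗ G) * (snd G (G ⊗ G) ≫ snd G G)) a₂ (by simp [w, MonObj.comp_mul, h₂]) hx⟩
  obtain rfl : W ≫ A₁ = a₁ := (cancel_mono (subι U)).1 (by
    rw [Category.assoc, hA₁, reassoc_of% hW, h₁]; simp [w, MonObj.comp_mul])
  obtain rfl : W ≫ B₁ = b₁ := (cancel_mono (subι U)).1 (by
    rw [Category.assoc, hB₁, reassoc_of% hW]; simp [w])
  obtain rfl : W ≫ A₂ = a₂ := (cancel_mono (subι U)).1 (by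
    rw [Category.assoc, hA₂, reassoc_of% hW, h₂]; simp [w, MonObj.comp_mul])
  obtain rfl : W ≫ B₂ = b₂ := (cancel_mono (subι U)).1 (by
    rw [Category.assoc, hB₂, reassoc_of% hW]; simp [w])
  have := key_univ fbar hV hV2 hm A₁ B₁ A₂ B₂ hB₁ (by rw [hA₁, hB₁, MonObj.comp_mul]) hB₂
    (by rw [hA₂, hB₂, MonObj.comp_mul])
  simpa only [MonObj.comp_mul, GrpObj.comp_inv, Category.assoc] using congrArg (W ≫ ·) this

/-- The locus of `(g, b)` with `b` and `g * b` in `U`. -/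
def cover (U : G.left.Opens) : (G ⊗ G).left.Opens :=
  (snd G G).left ⁻¹ᵁ U ⊓ (fst G G * snd G G).left ⁻¹ᵁ U

omit [GrpObj H] in
lemma cover_surjective (hU : Rel G U) : Surjective (subι (cover U) ≫ fst G G).left := by
  refine ⟨fun x => ?_⟩
  let X : Over S := Over.mk (G.left.fromSpecResidueField x ≫ G.hom)
  let gx : X ⟶ G := Over.homMk (G.left.fromSpecResidueField x) rfl
  let τ : X ⊗ G ≅ X ⊗ G :=
    { hom := lift (fst X G) ((fst X G ≫ gx) * snd X G)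
      inv := lift (fst X G) ((fst X G ≫ gx)⁻¹ * snd X G)
      hom_inv_id := by ext <;> simp [MonObj.comp_mul, GrpObj.comp_inv]
      inv_hom_id := by ext <;> simp [MonObj.comp_mul, GrpObj.comp_inv] }
  have : IsIso (β_ X G).hom.left := inferInstanceAs (IsIso ((Over.forget S).map (β_ X G).hom))
  have : IsIso τ.hom := τ.isIso_hom
  have : IsIso τ.hom.left := inferInstanceAs (IsIso ((Over.forget S).map τ.hom))
  have h₁ : CInt.IsSchematicallyDense ((snd X G).left ⁻¹ᵁ U) := by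
    have := Groth.Agent.RelDense.preimage (β_ X G).hom.left (hU X)
    rw [← Scheme.Hom.comp_preimage, ← Over.comp_left, braiding_hom_fst] at this
    exact this
  have h₂ := Groth.Agent.RelDense.preimage τ.hom.left h₁
  rw [← Scheme.Hom.comp_preimage, ← Over.comp_left, lift_snd] at h₂
  obtain ⟨z₀⟩ : Nonempty X.left := inferInstanceAs (Nonempty (Spec (G.left.residueField x)))
  have : Nonempty (X ⊗ G).left := ⟨(lift (𝟙 X) 1 : X ⟶ X ⊗ G).left z₀⟩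
  obtain ⟨z, hz⟩ := nonempty (Groth.Agent.RelDense.inf h₁ h₂)
  let r : X ⊗ G ⟶ G ⊗ G := gx ▷ G
  have hr₁ : r.left z ∈ (snd G G).left ⁻¹ᵁ U := by
    rw [← Scheme.Hom.mem_preimage, ← Scheme.Hom.comp_preimage, ← Over.comp_left, whiskerRight_snd]
    exact hz.1
  have hr₂ : r.left z ∈ (fst G G * snd G G).left ⁻¹ᵁ U := by
    rw [← Scheme.Hom.mem_preimage, ← Scheme.Hom.comp_preimage, ← Over.comp_left, MonObj.comp_mul,
      whiskerRight_fst, whiskerRight_snd]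
    exact hz.2
  refine ⟨⟨r.left z, hr₁, hr₂⟩, ?_⟩
  show (fst G G).left (r.left z) = x
  rw [← Scheme.Hom.comp_apply, ← Over.comp_left, whiskerRight_fst, Over.comp_left, Scheme.Hom.comp_apply]
  have : gx.left ((fst X G).left z) ∈ Set.range (G.left.fromSpecResidueField x) := ⟨_, rfl⟩
  rw [Scheme.range_fromSpecResidueField] at this
  exact this

variable [Flat G.hom] [LocallyOfFinitePresentation G.hom]

include hV hV2 hm in
/-- The extension as a morphism. -/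
lemma exists_ext (hU : Rel G U) :
    ∃ F : G ⟶ H, ∀ {X : Over S} (g : X ⟶ G) (a b : X ⟶ sub U),
      a ≫ subι U = g * (b ≫ subι U) → g ≫ F = (a ≫ fbar) * (b ≫ fbar)⁻¹ := by
  set π := subι (cover U) ≫ fst G G with hπ
  obtain ⟨b, hb⟩ := exists_lift_sub (O := U) (subι (cover U) ≫ snd G G) (sub_le _ fun y hy => hy.1)
  obtain ⟨a, ha⟩ := exists_lift_sub (O := U) (subι (cover U) ≫ (fst G G * snd G G))
    (sub_le _ fun y hy => hy.2)
  have hab : a ≫ subι U = π * (b ≫ subι U) := by rw [ha, hb, MonObj.comp_mul, hπ]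
  have hs := cover_surjective hU
  rw [← hπ] at hs
  have hfl : Flat (fst G G).left := by rw [Over.fst_left]; infer_instance
  have hfp : LocallyOfFinitePresentation (fst G G).left := by rw [Over.fst_left]; infer_instance
  have : Flat π.left := by rw [hπ, Over.comp_left, subι_left]; infer_instance
  have : LocallyOfFinitePresentation π.left := by rw [hπ, Over.comp_left, subι_left]; infer_instance
  set F₀ := (a ≫ fbar) * (b ≫ fbar)⁻¹ with hF₀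
  have hdesc : ∀ {Z : Scheme.{u}} (p₁ p₂ : Z ⟶ (sub (cover U)).left), p₁ ≫ π.left = p₂ ≫ π.left →
      p₁ ≫ F₀.left = p₂ ≫ F₀.left := by
    intro Z p₁ p₂ h
    have hw : p₂ ≫ (sub (cover U)).hom = p₁ ≫ (sub (cover U)).hom := by
      rw [← Over.w π, ← reassoc_of% h, Over.w]
    let Zo : Over S := Over.mk (p₁ ≫ (sub (cover U)).hom)
    let q₁ : Zo ⟶ sub (cover U) := Over.homMk p₁ rfl
    let q₂ : Zo ⟶ sub (cover U) := Over.homMk p₂ hw
    have hqq : q₁ ≫ π = q₂ ≫ π := Over.OverMorphism.ext h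
    have e₂ := congrArg (q₂ ≫ ·) hab
    have e₁ := congrArg (q₁ ≫ ·) hab
    simp only [MonObj.comp_mul] at e₁ e₂
    rw [← hqq] at e₂
    have := key fbar hV hV2 hm (q₁ ≫ π) (q₁ ≫ a) (q₁ ≫ b) (q₂ ≫ a) (q₂ ≫ b)
      (by rw [Category.assoc, Category.assoc, e₁]) (by rw [Category.assoc, Category.assoc, e₂])
    have e : q₁ ≫ F₀ = q₂ ≫ F₀ := by
      simpa only [hF₀, MonObj.comp_mul, GrpObj.comp_inv, Category.assoc] using this
    exact congrArg (fun m => m.left) e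
  have : EffectiveEpi π.left := inferInstance
  have hfac : π.left ≫ EffectiveEpi.desc π.left F₀.left hdesc = F₀.left := EffectiveEpi.fac _ _ _
  let F : G ⟶ H := Over.homMk (EffectiveEpi.desc π.left F₀.left hdesc) (by
    rw [← cancel_epi π.left, ← Category.assoc, hfac, Over.w, Over.w])
  have hF : π ≫ F = F₀ := Over.OverMorphism.ext hfac
  refine ⟨F, fun {X} g a₀ b₀ h => ?_⟩
  let Po : Over S := Over.mk (pullback.fst g.left π.left ≫ X.hom)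
  let p : Po ⟶ X := Over.homMk (pullback.fst g.left π.left) rfl
  let r : Po ⟶ sub (cover U) := Over.homMk (pullback.snd g.left π.left) (by
    rw [← Over.w π, ← pullback.condition_assoc, Over.w g]; rfl)
  have hpr : p ≫ g = r ≫ π := Over.OverMorphism.ext pullback.condition
  have : Epi p := by
    have : Epi p.left := Flat.epi_of_flat_of_surjective (pullback.fst g.left π.left)
    exact Over.epi_of_epi_left p
  rw [← cancel_epi p, ← Category.assoc, hpr, Category.assoc, hF, hF₀]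
  simp only [MonObj.comp_mul, GrpObj.comp_inv, ← Category.assoc]
  refine key fbar hV hV2 hm (p ≫ g) (r ≫ a) (r ≫ b) (p ≫ a₀) (p ≫ b₀) ?_ ?_
  · rw [hpr, Category.assoc, Category.assoc, hab, MonObj.comp_mul]
  · rw [Category.assoc, Category.assoc, h, MonObj.comp_mul]

include hV hV2 hm in
/-- The extension is the unique homomorphism extending the map. -/
theorem exists_hom (hU : Rel G U) (hV1 : V ≤ (fst G G).left ⁻¹ᵁ U) :
    ∃ F : G ⟶ H, IsMonHom F ∧ subι U ≫ F = fbar := by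
  obtain ⟨F, hF⟩ := exists_ext fbar hV hV2 hm hU
  have hmul : ∀ {X : Over S} (a b : X ⟶ sub U),
      ⊤ ≤ (lift (a ≫ subι U) (b ≫ subι U)).left ⁻¹ᵁ V →
      (a ≫ subι U) ≫ F = a ≫ fbar := by
    intro X a b h
    obtain ⟨c, hc, hc'⟩ := hm X a b h
    rw [hF (a ≫ subι U) c b hc, hc', mul_inv_cancel_right]
  have hres : subι U ≫ F = fbar := by
    have : Epi (fst (sub U) G) := by
      have : IsSplitEpi (fst (sub U) G) := IsSplitEpi.mk' ⟨lift (𝟙 _) 1, lift_fst _ _⟩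
      infer_instance
    let j : sub U ⊗ G ⟶ G ⊗ G := subι U ▷ G
    have hj : IsOpenImmersion j.left := by
      refine MorphismProperty.of_isPullback (P := @IsOpenImmersion) (f := (fst G G).left)
        (f' := (fst (sub U) G).left) ?_ (inferInstance : IsOpenImmersion (subι U).left)
      refine IsPullback.of_right (h₁₂ := (snd G G).left) (h₂₂ := G.hom) (v₁₃ := G.hom) ?_ ?_ ?_ |>.flip
      · have e : j.left ≫ (snd G G).left = (snd (sub U) G).left := by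
          rw [← Over.comp_left, whiskerRight_snd]
        rw [e, Over.w]
        exact (IsPullback.of_hasPullback (sub U).hom G.hom).flip
      · simp only [j, ← Over.comp_left, whiskerRight_fst]
      · exact (IsPullback.of_hasPullback G.hom G.hom).flip
    rw [← cancel_epi (fst (sub U) G)]
    refine hom_ext_sub (hV.preimage j) ?_
    have hsub : ⊤ ≤ (subι (j.left ⁻¹ᵁ V) ≫ j).left ⁻¹ᵁ V := sub_le _ le_rfl
    obtain ⟨b, hb⟩ := exists_lift_sub (O := U) ((subι (j.left ⁻¹ᵁ V) ≫ j) ≫ snd G G) fun y hy => hV2 (hsub hy)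
    have := hmul (subι (j.left ⁻¹ᵁ V) ≫ fst (sub U) G) b (by
      have e : lift ((subι (j.left ⁻¹ᵁ V) ≫ fst (sub U) G) ≫ subι U) (b ≫ subι U) =
          subι (j.left ⁻¹ᵁ V) ≫ j := by
        rw [hb]; ext <;> simp [j]
      rw [e]; exact hsub)
    simpa only [Category.assoc] using this
  obtain ⟨a, ha⟩ := exists_lift_sub (O := U) (subι V ≫ fst G G) (sub_le _ hV1)
  obtain ⟨b, hb⟩ := exists_lift_sub (O := U) (subι V ≫ snd G G) (sub_le _ hV2)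
  obtain ⟨c, hc, hc'⟩ := hm _ a b (by
    rw [ha, hb, ← comp_lift, lift_fst_snd, Category.comp_id]
    exact fun y _ => y.2)
  have h2 : (fst G G * snd G G) ≫ F = (fst G G ≫ F) * (snd G G ≫ F) := by
    refine hom_ext_sub hV ?_
    rw [← Category.assoc, MonObj.comp_mul, MonObj.comp_mul, ← Category.assoc, ← Category.assoc, ← ha, ← hb,
      ← hc, Category.assoc, Category.assoc, Category.assoc, hres, hc']
  have hone : η[G] ≫ F = η[H] := by
    have h := congrArg (lift (1 : 𝟙_ (Over S) ⟶ G) 1 ≫ ·) h2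
    simp only [MonObj.comp_mul, ← Category.assoc, lift_fst, lift_snd, _root_.mul_one] at h
    have h' : (1 : 𝟙_ (Over S) ⟶ G) ≫ F = 1 := left_eq_mul.mp h
    simpa [Hom.one_def, toUnit_unique (toUnit (𝟙_ (Over S))) (𝟙 _)] using h'
  refine ⟨F, ⟨hone, ?_⟩, hres⟩
  rw [Hom.mul_def, Hom.mul_def, lift_fst_snd, Category.id_comp] at h2
  rw [h2]
  congr 1

end Groth.Agent.RelDense
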